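import Cfsg.Prelude.Def_RootSubgroups
import Cfsg.Agent.S5059

/-!
Quadratic pairs: conjugation of the minimal quadratic elements, and the elementary facts on the
subgroups `E(σ)`.
-/

set_option autoImplicit false
universe u

namespace Cfsg.Agent.QuadPair

open Cfsg

variable {k : Type u} [Field k] {M : Type u} [AddCommGroup M] [Module k M]


theorem val_conj (g τ : (LinearMap.GeneralLinearGroup k M)) :
    ((g * τ * g⁻¹ : (LinearMap.GeneralLinearGroup k M)) : M →ₗ[k] M) - 1 = (g : M →ₗ[k] M) * ((τ : M →ₗ[k] M) - 1) * ((g⁻¹ : (LinearMap.GeneralLinearGroup k M)) : M →ₗ[k] M) := by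
  rw [mul_sub, mul_one, sub_mul, Units.mul_inv, Units.val_mul, Units.val_mul]

theorem inv_apply (g : (LinearMap.GeneralLinearGroup k M)) (m : M) : ((g⁻¹ : (LinearMap.GeneralLinearGroup k M)) : M →ₗ[k] M) ((g : M →ₗ[k] M) m) = m := by
  rw [← Module.End.mul_apply, Units.inv_mul, Module.End.one_apply]

theorem apply_inv (g : (LinearMap.GeneralLinearGroup k M)) (m : M) : (g : M →ₗ[k] M) (((g⁻¹ : (LinearMap.GeneralLinearGroup k M)) : M →ₗ[k] M) m) = m := by
  rw [← Module.End.mul_apply, Units.mul_inv, Module.End.one_apply]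

theorem range_conj (g τ : (LinearMap.GeneralLinearGroup k M)) :
    LinearMap.range (((g * τ * g⁻¹ : (LinearMap.GeneralLinearGroup k M)) : M →ₗ[k] M) - 1) =
      (LinearMap.range ((τ : M →ₗ[k] M) - 1)).map (g : M →ₗ[k] M) := by
  rw [val_conj]
  ext m
  constructor
  · rintro ⟨x, rfl⟩
    exact ⟨_, ⟨((g⁻¹ : (LinearMap.GeneralLinearGroup k M)) : M →ₗ[k] M) x, rfl⟩, rfl⟩
  · rintro ⟨_, ⟨x, rfl⟩, rfl⟩
    exact ⟨(g : M →ₗ[k] M) x, by rw [Module.End.mul_apply, Module.End.mul_apply, inv_apply]⟩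

theorem mem_ker_conj (g τ : (LinearMap.GeneralLinearGroup k M)) (m : M) :
    m ∈ LinearMap.ker (((g * τ * g⁻¹ : (LinearMap.GeneralLinearGroup k M)) : M →ₗ[k] M) - 1) ↔
      ((g⁻¹ : (LinearMap.GeneralLinearGroup k M)) : M →ₗ[k] M) m ∈ LinearMap.ker ((τ : M →ₗ[k] M) - 1) := by
  rw [val_conj, LinearMap.mem_ker, LinearMap.mem_ker, Module.End.mul_apply, Module.End.mul_apply]
  refine ⟨fun h => ?_, fun h => by rw [h, map_zero]⟩
  rw [← inv_apply g (((τ : M →ₗ[k] M) - 1) _), h, map_zero]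

theorem conj_minimal {G : Subgroup (LinearMap.GeneralLinearGroup k M)} {g τ : (LinearMap.GeneralLinearGroup k M)} (hg : g ∈ G)
    (hτ : τ ∈ minimalQuadraticElements G) : g * τ * g⁻¹ ∈ minimalQuadraticElements G := by
  obtain ⟨⟨hτG, ⟨hsq, hne⟩, hs⟩, hmin⟩ := hτ
  set δ := (τ : M →ₗ[k] M) - 1 with hδ
  refine ⟨⟨mul_mem (mul_mem hg hτG) (inv_mem hg), ⟨?_, ?_⟩, ?_⟩, ?_⟩
  · rw [val_conj, ← hδ]
    calc (g : M →ₗ[k] M) * δ * ((g⁻¹ : (LinearMap.GeneralLinearGroup k M)) : M →ₗ[k] M) * ((g : M →ₗ[k] M) * δ * ((g⁻¹ : (LinearMap.GeneralLinearGroup k M)) : M →ₗ[k] M))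
        = (g : M →ₗ[k] M) * δ * (((g⁻¹ : (LinearMap.GeneralLinearGroup k M)) : M →ₗ[k] M) * (g : M →ₗ[k] M)) * δ * ((g⁻¹ : (LinearMap.GeneralLinearGroup k M)) : M →ₗ[k] M) := by
          noncomm_ring
      _ = 0 := by rw [Units.inv_mul, mul_one, mul_assoc (g : M →ₗ[k] M) δ δ, hsq, mul_zero, zero_mul]
  · rw [val_conj, ← hδ]
    intro h
    apply hne
    ext m
    have h1 := congrArg ((g⁻¹ : (LinearMap.GeneralLinearGroup k M)) : M →ₗ[k] M) (LinearMap.congr_fun h ((g : M →ₗ[k] M) m))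
    simpa [inv_apply] using h1
  · rintro μ ⟨c, hc⟩
    have h1 : g⁻¹ * μ * g ∈ G := hs ⟨c, by
      rw [Units.val_mul, Units.val_mul, hc, val_conj, ← hδ, mul_add, add_mul, mul_one, Units.inv_mul,
        mul_smul_comm, smul_mul_assoc]
      congr 2
      calc ((g⁻¹ : (LinearMap.GeneralLinearGroup k M)) : M →ₗ[k] M) * ((g : M →ₗ[k] M) * δ * ((g⁻¹ : (LinearMap.GeneralLinearGroup k M)) : M →ₗ[k] M)) * (g : M →ₗ[k] M)
          = (((g⁻¹ : (LinearMap.GeneralLinearGroup k M)) : M →ₗ[k] M) * (g : M →ₗ[k] M)) * δ * (((g⁻¹ : (LinearMap.GeneralLinearGroup k M)) : M →ₗ[k] M) * (g : M →ₗ[k] M)) := by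
            noncomm_ring
        _ = δ := by rw [Units.inv_mul, one_mul, mul_one]⟩
    have h2 := mul_mem (mul_mem hg h1) (inv_mem hg)
    rwa [show g * (g⁻¹ * μ * g) * g⁻¹ = μ by group] at h2
  · intro ρ hρ
    refine le_trans (le_of_eq ?_) (hmin ρ hρ)
    unfold commutatorRank
    rw [range_conj]
    exact (Submodule.equivMapOfInjective _ (Function.LeftInverse.injective (inv_apply g)) _).finrank_eq.symm

variable [FiniteDimensional k M] (hk2 : ringChar k ≠ 2) (hk3 : Nat.card k ≠ 3)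
  {G : Subgroup (LinearMap.GeneralLinearGroup k M)} (hG : IsQuadraticPair G)
include hk2 hk3 hG

theorem mem_E {E : Subgroup (LinearMap.GeneralLinearGroup k M)} (hE : E ∈ quadraticRootSubgroups G) :
    ∃ σ ∈ minimalQuadraticElements G, E = sameActionSubgroup G σ ∧ σ ∈ E ∧ σ ≠ 1 ∧
      ∀ e, e ∈ E ↔ e ∈ sameActionClass G σ ∨ e = 1 := by
  obtain ⟨σ, hσ, rfl⟩ := hE
  refine ⟨σ, hσ, rfl, Subgroup.subset_closure ⟨hσ, rfl, rfl⟩, ?_, fun e => ?_⟩
  · rintro rfl
    exact hσ.1.2.1.2 (sub_self 1)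
  · rw [← SetLike.mem_coe, (Cfsg.Agent.S5059.result hk2 hk3 hG hσ).1]
    simp [or_comm]

theorem sq_zero {σ e f : (LinearMap.GeneralLinearGroup k M)} (he : e ∈ sameActionClass G σ) (hf : f ∈ sameActionClass G σ) :
    ((e : M →ₗ[k] M) - 1) * ((f : M →ₗ[k] M) - 1) = 0 := by
  ext m
  have h1 : ((f : M →ₗ[k] M) - 1) m ∈ LinearMap.range ((e : M →ₗ[k] M) - 1) := by
    rw [he.2.2, ← hf.2.2]; exact ⟨m, rfl⟩
  obtain ⟨x, hx⟩ := h1
  rw [Module.End.mul_apply, ← hx]
  exact LinearMap.congr_fun he.1.1.2.1.1 x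

theorem mul_sub_one {E : Subgroup (LinearMap.GeneralLinearGroup k M)} (hE : E ∈ quadraticRootSubgroups G) {e f : (LinearMap.GeneralLinearGroup k M)} (he : e ∈ E) (hf : f ∈ E) :
    ((e * f : (LinearMap.GeneralLinearGroup k M)) : M →ₗ[k] M) - 1 = ((e : M →ₗ[k] M) - 1) + ((f : M →ₗ[k] M) - 1) := by
  obtain ⟨σ, hσ, -, -, -, hmem⟩ := mem_E hk2 hk3 hG hE
  rcases (hmem e).1 he with he1 | rfl
  · rcases (hmem f).1 hf with hf1 | rfl
    · have h := sq_zero hk2 hk3 hG he1 hf1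
      rw [Units.val_mul]
      calc (e : M →ₗ[k] M) * (f : M →ₗ[k] M) - 1 =
          ((e : M →ₗ[k] M) - 1) * ((f : M →ₗ[k] M) - 1) + (((e : M →ₗ[k] M) - 1) + ((f : M →ₗ[k] M) - 1)) := by
            noncomm_ring
        _ = _ := by rw [h, zero_add]
    · simp
  · simp

theorem inv_sub_one {E : Subgroup (LinearMap.GeneralLinearGroup k M)} (hE : E ∈ quadraticRootSubgroups G) {e : (LinearMap.GeneralLinearGroup k M)} (he : e ∈ E) :
    ((e⁻¹ : (LinearMap.GeneralLinearGroup k M)) : M →ₗ[k] M) - 1 = -((e : M →ₗ[k] M) - 1) := by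
  have h := mul_sub_one hk2 hk3 hG hE he (inv_mem he)
  rw [mul_inv_cancel, Units.val_one, sub_self] at h
  exact eq_neg_of_add_eq_zero_right h.symm

theorem E_le_G {E : Subgroup (LinearMap.GeneralLinearGroup k M)} (hE : E ∈ quadraticRootSubgroups G) : E ≤ G := by
  obtain ⟨σ, -, rfl⟩ := hE
  exact (Subgroup.closure_le G).2 fun τ hτ => hτ.1.1.1

/-- A member that commutes with a non-identity element of `F` normalizes `F`. -/
theorem normalizes_of_commute {F : Subgroup (LinearMap.GeneralLinearGroup k M)} (hF : F ∈ quadraticRootSubgroups G) {g f : (LinearMap.GeneralLinearGroup k M)}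
    (hg : g ∈ G) (hf : f ∈ F) (hf1 : f ≠ 1) (h : g * f = f * g) : ∀ x ∈ F, g * x * g⁻¹ ∈ F := by
  obtain ⟨σ, hσ, -, -, -, hmem⟩ := mem_E hk2 hk3 hG hF
  have hfc := ((hmem f).1 hf).resolve_right hf1
  have e : g * f * g⁻¹ = f := by rw [h, mul_inv_cancel_right]
  intro x hx
  rcases (hmem x).1 hx with hx1 | rfl
  · refine (hmem _).2 (Or.inl ⟨conj_minimal hg hx1.1, ?_, ?_⟩)
    · ext m
      rw [mem_ker_conj, hx1.2.1, ← hfc.2.1, ← mem_ker_conj, e]
    · rw [range_conj, hx1.2.2, ← hfc.2.2, ← range_conj, e]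
  · rw [mul_one, mul_inv_cancel]
    exact one_mem F

/-- A member normalizing `F` centralizes it. -/
theorem centralizes_of_normalizes {E F : Subgroup (LinearMap.GeneralLinearGroup k M)} (hE : E ∈ quadraticRootSubgroups G)
    (hF : F ∈ quadraticRootSubgroups G) {e : (LinearMap.GeneralLinearGroup k M)} (he : e ∈ E)
    (hn : ∀ x ∈ F, e * x * e⁻¹ ∈ F) (hn' : ∀ x ∈ F, e⁻¹ * x * e ∈ F) : ∀ f ∈ F, e * f = f * e := by
  intro f hf
  have h2 : (2 : k) ≠ 0 := Ring.two_ne_zero hk2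
  obtain ⟨σ, hσ, -, -, -, hEmem⟩ := mem_E hk2 hk3 hG hE
  obtain ⟨τ, hτ, -, -, -, hFmem⟩ := mem_E hk2 hk3 hG hF
  by_cases he1 : e = 1
  · rw [he1, one_mul, mul_one]
  by_cases hf1 : f = 1
  · rw [hf1, one_mul, mul_one]
  have hec := ((hEmem e).1 he).resolve_right he1
  have hfc := ((hFmem f).1 hf).resolve_right hf1
  set a := (e : M →ₗ[k] M) - 1 with ha
  set b := (f : M →ₗ[k] M) - 1 with hb
  have haa : a * a = 0 := hec.1.1.2.1.1
  have hai : ((e⁻¹ : (LinearMap.GeneralLinearGroup k M)) : M →ₗ[k] M) = 1 - a := by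
    rw [eq_add_of_sub_eq (inv_sub_one hk2 hk3 hG hE he), ha]; abel
  have hae : (e : M →ₗ[k] M) = 1 + a := by rw [ha]; abel
  have hbf : (f : M →ₗ[k] M) = 1 + b := by rw [hb]; abel
  have hu : ((e * f * e⁻¹ : (LinearMap.GeneralLinearGroup k M)) : M →ₗ[k] M) - 1 = b + (a * b - b * a) - a * b * a := by
    rw [val_conj, ← hb, hae, hai]; noncomm_ring
  have hw : ((e⁻¹ * f * e : (LinearMap.GeneralLinearGroup k M)) : M →ₗ[k] M) - 1 = b - (a * b - b * a) - a * b * a := by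
    have := val_conj e⁻¹ f
    rw [inv_inv] at this
    rw [this, ← hb, hae, hai]; noncomm_ring
  set g1 := e * f * e⁻¹
  set g2 := e⁻¹ * f * e
  have m1 : g1 ∈ F := hn f hf
  have m2 : g2 ∈ F := hn' f hf
  -- the element with `g - 1 = -2 aba`
  have k0 : ((g1 * g2 * (f⁻¹ * f⁻¹) : (LinearMap.GeneralLinearGroup k M)) : M →ₗ[k] M) - 1 = (-2 : k) • (a * b * a) := by
    rw [mul_sub_one hk2 hk3 hG hF (mul_mem m1 m2) (mul_mem (inv_mem hf) (inv_mem hf)),
      mul_sub_one hk2 hk3 hG hF m1 m2, mul_sub_one hk2 hk3 hG hF (inv_mem hf) (inv_mem hf),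
      inv_sub_one hk2 hk3 hG hF hf, hu, hw, ← hb, neg_smul, two_smul]
    abel
  have haba : a * b * a = 0 := by
    by_contra hne
    have hg : g1 * g2 * (f⁻¹ * f⁻¹) ≠ 1 := fun h => by
      rw [h, Units.val_one, sub_self] at k0
      exact hne ((smul_eq_zero.1 k0.symm).resolve_left (neg_ne_zero.2 h2))
    have hgc := ((hFmem _).1 (mul_mem (mul_mem m1 m2) (mul_mem (inv_mem hf) (inv_mem hf)))).resolve_right hg
    have hR : LinearMap.range b ≤ LinearMap.range a := by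
      rw [hfc.2.2, ← hgc.2.2, k0]
      rintro _ ⟨m, rfl⟩
      exact ⟨(-2 : k) • b (a m), by simp⟩
    apply hne
    have hab : a * b = 0 := by
      ext m
      obtain ⟨x, hx⟩ := hR ⟨m, rfl⟩
      rw [Module.End.mul_apply, ← hx]
      exact LinearMap.congr_fun haa x
    rw [hab, zero_mul]
  set x := a * b - b * a with hx
  have k1 : ((g1 * g2⁻¹ : (LinearMap.GeneralLinearGroup k M)) : M →ₗ[k] M) - 1 = (2 : k) • x := by
    rw [mul_sub_one hk2 hk3 hG hF m1 (inv_mem m2), inv_sub_one hk2 hk3 hG hF m2, hu, hw, two_smul]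
    abel
  have hab : a * b = b * a := by
    by_contra hne
    have hg : g1 * g2⁻¹ ≠ 1 := fun h => by
      rw [h, Units.val_one, sub_self] at k1
      exact hne (sub_eq_zero.1 ((smul_eq_zero.1 k1.symm).resolve_left h2))
    have hgc := ((hFmem _).1 (mul_mem m1 (inv_mem m2))).resolve_right hg
    have hax : a * x = 0 := by
      rw [hx, mul_sub, ← mul_assoc, ← mul_assoc, haa, haba, zero_mul, sub_self]
    have hxa : x * a = 0 := by
      rw [hx, sub_mul, haba, mul_assoc, haa, mul_zero, sub_self]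
    have h3 : a * b = 0 := by
      ext m
      have h4 : b m ∈ LinearMap.range (((g1 * g2⁻¹ : (LinearMap.GeneralLinearGroup k M)) : M →ₗ[k] M) - 1) := by
        rw [hgc.2.2, ← hfc.2.2]; exact ⟨m, rfl⟩
      rw [k1] at h4
      obtain ⟨y, hy⟩ := h4
      rw [Module.End.mul_apply, ← hy, LinearMap.smul_apply, map_smul, ← Module.End.mul_apply, hax]
      simp
    have h5 : b * a = 0 := by
      ext m
      have h4 : a m ∈ LinearMap.ker (((g1 * g2⁻¹ : (LinearMap.GeneralLinearGroup k M)) : M →ₗ[k] M) - 1) := by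
        rw [k1, LinearMap.mem_ker, LinearMap.smul_apply, ← Module.End.mul_apply, hxa]
        simp
      rw [hgc.2.1, ← hfc.2.1] at h4
      exact LinearMap.mem_ker.1 h4
    exact hne (h3.trans h5.symm)
  refine Units.ext ?_
  rw [Units.val_mul, Units.val_mul, hae, hbf]
  noncomm_ring [hab]

/-- Two members with commuting non-identity elements, or one partly normalizing the other, commute. -/
theorem commutator_eq_bot {E F : Subgroup (LinearMap.GeneralLinearGroup k M)} (hE : E ∈ quadraticRootSubgroups G)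
    (hF : F ∈ quadraticRootSubgroups G)
    (h : (∃ e ∈ E, e ≠ 1 ∧ ∃ f ∈ F, f ≠ 1 ∧ e * f = f * e) ∨
      E ⊓ Subgroup.normalizer (F : Set (LinearMap.GeneralLinearGroup k M)) ≠ ⊥) : ⁅E, F⁆ = ⊥ := by
  have cent : ∀ P Q : Subgroup (LinearMap.GeneralLinearGroup k M), P ∈ quadraticRootSubgroups G → Q ∈ quadraticRootSubgroups G →
      ∀ p ∈ P, ∀ q ∈ Q, q ≠ 1 → p * q = q * p → ∀ x ∈ Q, p * x = x * p := by
    intro P Q hP hQ p hp q hq hq1 hpq
    refine centralizes_of_normalizes hk2 hk3 hG hP hQ hp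
      (normalizes_of_commute hk2 hk3 hG hQ (E_le_G hk2 hk3 hG hP hp) hq hq1 hpq) fun x hx => ?_
    have h1 := normalizes_of_commute hk2 hk3 hG hQ (inv_mem (E_le_G hk2 hk3 hG hP hp)) hq hq1
      ((show Commute p q from hpq).inv_left).eq x hx
    rwa [inv_inv] at h1
  obtain ⟨e, he, he1, f, hf, hf1, hef⟩ : ∃ e ∈ E, e ≠ 1 ∧ ∃ f ∈ F, f ≠ 1 ∧ e * f = f * e := by
    rcases h with h | h
    · exact h
    obtain ⟨e, he, he1⟩ : ∃ e ∈ E ⊓ Subgroup.normalizer (F : Set (LinearMap.GeneralLinearGroup k M)), e ≠ 1 := by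
      by_contra hc
      push Not at hc
      exact h ((Subgroup.eq_bot_iff_forall _).2 hc)
    obtain ⟨τ, -, -, hτF, hτ1, -⟩ := mem_E hk2 hk3 hG hF
    refine ⟨e, he.1, he1, τ, hτF, hτ1, ?_⟩
    refine centralizes_of_normalizes hk2 hk3 hG hE hF he.1
      (fun x hx => (Subgroup.mem_normalizer_iff.1 he.2 x).1 hx) (fun x hx => ?_) τ hτF
    have := (Subgroup.mem_normalizer_iff.1 (inv_mem he.2) x).1 hx
    rwa [inv_inv] at this
  rw [eq_bot_iff, Subgroup.commutator_le]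
  intro x hx y hy
  rw [Subgroup.mem_bot, commutatorElement_eq_one_iff_mul_comm]
  have h1 : f * x = x * f := cent F E hF hE f hf e he he1 hef.symm x hx
  exact cent E F hE hF x hx f hf hf1 h1.symm y hy

end Cfsg.Agent.QuadPair
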